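import Mathlib
import Cfsg.Prelude.Def_CaseTheorems
import Cfsg.Agent.Classification.CyclicNormalAbelian
import Cfsg.Agent.TwoGroupsQ.UniqueInvolution

/-!
A normal abelian subgroup of type `(p, p)` in a `p`-group with an irreducible faithful
representation splits the module into `p` summands.
-/

set_option autoImplicit false

namespace CfsgLib.PPSplit

variable {G : Type*} [Group G] [Finite G] {p : ℕ} [hp : Fact p.Prime]

omit [Finite G] in
theorem conj_pow_eq {g a z : G} (hz : ∀ x, Commute x z) {k : ℕ} (h : g * a * g⁻¹ = a * z ^ k)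
    (i : ℕ) : g * (a * z ^ i) * g⁻¹ = a * z ^ (i + k) := by
  rw [show g * (a * z ^ i) * g⁻¹ = g * a * (z ^ i * g⁻¹) by group,
    ← ((hz g⁻¹).pow_right i).eq, ← mul_assoc, h, mul_assoc, ← pow_add, add_comm]

/-- A central element and an element moved into its cosets, both of order `p`. -/
theorem exists_pair_of_not_allCyclic (hG : IsPGroup p G)
    (hnA : ¬ CfsgLib.Classification.CyclicNormal.AllCyclic G) :
    ∃ z a : G, z ^ p = 1 ∧ z ≠ 1 ∧ (∀ x, Commute x z) ∧ a ^ p = 1 ∧ a ∉ Subgroup.zpowers z ∧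
      ∀ g : G, ∃ k : ℕ, g * a * g⁻¹ = a * z ^ k := by
  simp only [CfsgLib.Classification.CyclicNormal.AllCyclic, not_forall] at hnA
  obtain ⟨A, hAn, hAc, hAnc⟩ := hnA
  have hcomm : ∀ x ∈ A, ∀ y ∈ A, x * y = y * x := fun x hx y hy =>
    congrArg Subtype.val (hAc.is_comm.comm (⟨x, hx⟩ : A) ⟨y, hy⟩)
  -- elements of order dividing `p` in `A`
  let E : Subgroup G :=
    { carrier := {x | x ∈ A ∧ x ^ p = 1}
      one_mem' := ⟨one_mem A, one_pow p⟩
      mul_mem' := fun {x y} hx hy => ⟨mul_mem hx.1 hy.1, by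
        rw [(show Commute x y from hcomm x hx.1 y hy.1).mul_pow, hx.2, hy.2, one_mul]⟩
      inv_mem' := fun {x} hx => ⟨inv_mem hx.1, by rw [inv_pow, hx.2, inv_one]⟩ }
  haveI hEn : E.Normal := ⟨fun x hx g => ⟨hAn.conj_mem x hx.1 g, by
    rw [conj_pow, hx.2, mul_one, mul_inv_cancel]⟩⟩
  -- a central element of order `p` in `E`
  have hE1 : E ≠ ⊥ := by
    intro h
    obtain ⟨x, hx⟩ : ∃ x : A, x ≠ 1 := by
      by_contra h'
      push Not at h'
      haveI : Subsingleton A := ⟨fun a b => (h' a).trans (h' b).symm⟩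
      exact hAnc isCyclic_of_subsingleton
    obtain ⟨k, hk⟩ := (hG.to_subgroup A).exists_card_eq
    have hk0 : k ≠ 0 := fun e => by
      rw [e, pow_zero] at hk
      haveI := (Nat.card_eq_one_iff_unique.1 hk).1
      exact hx (Subsingleton.elim _ _)
    obtain ⟨y, hy⟩ := exists_prime_orderOf_dvd_card' p (hk ▸ dvd_pow_self p hk0 : p ∣ Nat.card A)
    have : (y : G) ∈ E := ⟨y.2, by
      rw [← SubmonoidClass.coe_pow, ← hy, pow_orderOf_eq_one]; rfl⟩
    rw [h, Subgroup.mem_bot] at this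
    rw [← Subgroup.orderOf_coe, this, orderOf_one] at hy
    exact hp.out.ne_one hy.symm
  haveI : Nontrivial E := (Subgroup.nontrivial_iff_ne_bot E).2 hE1
  -- fixed points of conjugation
  have hfix : ∀ (H : Type _) [Group H] [Finite H] (hH : IsPGroup p H) (N : Subgroup H) [N.Normal],
      N ≠ ⊥ → ∃ z ∈ N, z ≠ 1 ∧ ∀ x : H, Commute x z := by
    intro H _ _ hH N _ hN
    haveI : Nontrivial N := (Subgroup.nontrivial_iff_ne_bot N).2 hN
    obtain ⟨k, hk⟩ := (hH.to_subgroup N).exists_card_eq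
    have hk0 : k ≠ 0 := fun e => by
      rw [e, pow_zero] at hk; exact absurd hk (Finite.one_lt_card (α := N)).ne'
    have hcong := IsPGroup.card_modEq_card_fixedPoints (p := p) (G := ConjAct H)
      (hH.of_equiv ConjAct.toConjAct) N
    have h1 : (1 : N) ∈ MulAction.fixedPoints (ConjAct H) N := fun g => smul_one g
    obtain ⟨z, hz, hz1⟩ := IsPGroup.exists_fixed_point_of_prime_dvd_card_of_fixed_point
      (hH.of_equiv ConjAct.toConjAct) N (hk ▸ dvd_pow_self p hk0) h1
    refine ⟨z, z.2, fun e => hz1 (Subtype.ext e.symm), fun x => ?_⟩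
    have h2 : x * (z : H) * x⁻¹ = z := congrArg Subtype.val (hz (ConjAct.toConjAct x))
    show x * (z : H) = z * x
    calc x * (z : H) = (x * z * x⁻¹) * x := by group
      _ = z * x := by rw [h2]
  obtain ⟨z, hzE, hz1, hzc⟩ := hfix G hG E hE1
  set Zs := Subgroup.zpowers z with hZs
  haveI : Zs.Normal := ⟨fun x hx g => by
    obtain ⟨k, rfl⟩ := Subgroup.mem_zpowers_iff.1 hx
    rw [((hzc g).zpow_right k).eq, mul_inv_cancel_right]
    exact zpow_mem (Subgroup.mem_zpowers z) k⟩
  haveI : (E.map (QuotientGroup.mk' Zs)).Normal :=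
    Subgroup.Normal.map hEn _ (QuotientGroup.mk'_surjective Zs)
  have hne : E.map (QuotientGroup.mk' Zs) ≠ ⊥ := by
    intro h
    rw [Subgroup.map_eq_bot_iff, QuotientGroup.ker_mk'] at h
    -- then `A` has a unique subgroup of order `p`
    refine hAnc ?_
    haveI : CommGroup A := { (inferInstance : Group A) with mul_comm := hAc.is_comm.comm }
    refine CfsgLib.TwoGroupsQ.isCyclic_of_comm (hG.to_subgroup A) ?_ (fun a b => hAc.is_comm.comm a b)
    intro x y hx hy hy1
    have hxE : (x : G) ∈ E := ⟨x.2, congrArg Subtype.val hx⟩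
    have hyE : (y : G) ∈ E := ⟨y.2, congrArg Subtype.val hy⟩
    have hyo : orderOf (y : G) = p :=
      orderOf_eq_prime (congrArg Subtype.val hy) (fun e => hy1 (Subtype.ext e))
    have heq : Subgroup.zpowers (y : G) = Zs := by
      refine Subgroup.eq_of_le_of_card_ge (Subgroup.zpowers_le.2 (h hyE)) ?_
      rw [Nat.card_zpowers, Nat.card_zpowers, hyo, orderOf_eq_prime hzE.2 hz1]
    have hxy : (x : G) ∈ Subgroup.zpowers (y : G) := heq ▸ h hxE
    obtain ⟨j, hj⟩ := Subgroup.mem_zpowers_iff.1 hxy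
    exact Subgroup.mem_zpowers_iff.2 ⟨j, Subtype.ext (by simpa using hj)⟩
  obtain ⟨w, ⟨a, haE, rfl⟩, ha1, hac⟩ := hfix (G ⧸ Zs) (hG.to_quotient Zs) _ hne
  refine ⟨z, a, hzE.2, hz1, hzc, haE.2, fun h => ha1 ((QuotientGroup.eq_one_iff a).2 h), fun g => ?_⟩
  have h1 : a⁻¹ * (g * a * g⁻¹) ∈ Zs := by
    rw [← QuotientGroup.eq]
    have h := (hac (g : G ⧸ Zs)).eq
    simp only [QuotientGroup.mk'_apply] at h
    rw [QuotientGroup.mk_mul, QuotientGroup.mk_mul, QuotientGroup.mk_inv, h, mul_inv_cancel_right]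
  rw [hZs, ← mem_powers_iff_mem_zpowers] at h1
  obtain ⟨k, hk⟩ := h1
  exact ⟨k, by rw [show z ^ k = a⁻¹ * (g * a * g⁻¹) from hk, mul_inv_cancel_left]⟩

/-- The same outside the list of groups without such a normal subgroup. -/
theorem exists_pair (hG : IsPGroup p G) (hnc : ¬ IsCyclic G)
    (hnq : ∀ n : ℕ, ¬ Nonempty (G ≃* QuaternionGroup n))
    (hnd : ∀ n : ℕ, ¬ Nonempty (G ≃* DihedralGroup n)) (hnsd : ¬ Cfsg.IsQuasiDihedral G) :
    ∃ z a : G, z ^ p = 1 ∧ z ≠ 1 ∧ (∀ x, Commute x z) ∧ a ^ p = 1 ∧ a ∉ Subgroup.zpowers z ∧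
      ∀ g : G, ∃ k : ℕ, g * a * g⁻¹ = a * z ^ k :=
  exists_pair_of_not_allCyclic hG fun h => by
    rcases CfsgLib.Classification.CyclicNormal.classify hG h with h | ⟨-, ⟨n, h⟩ | ⟨n, -, h⟩ | h⟩
    · exact hnc h
    · exact hnq n h
    · exact hnd n h
    · exact hnsd h

section Split
variable {F : Type*} [Field F] {V : Type*} [AddCommGroup V] [Module F V]

theorem sum_mul_pow_range (f : ℕ → V) (hf : ∀ n, f (n % p) = f n) {j : ℕ} (hj : j ≠ 0) (hjp : j < p) :
    ∑ i ∈ Finset.range p, f (i * j) = ∑ t ∈ Finset.range p, f t := by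
  refine Finset.sum_bij (fun i _ => i * j % p) (fun i _ => Finset.mem_range.2 (Nat.mod_lt _ hp.out.pos))
    ?_ ?_ (fun i _ => (hf _).symm)
  · intro a ha b hb h
    rw [Finset.mem_range] at ha hb
    have hc : Nat.Coprime p j := hp.out.coprime_iff_not_dvd.2
      fun hd => absurd (Nat.le_of_dvd (Nat.pos_of_ne_zero hj) hd) (by omega)
    have h' : a * j ≡ b * j [MOD p] := h
    have := Nat.ModEq.cancel_right_of_coprime hc h'
    exact Nat.ModEq.eq_of_lt_of_lt this ha hb
  · intro t ht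
    rw [Finset.mem_range] at ht
    have hc : Nat.Coprime j p := (hp.out.coprime_iff_not_dvd.2
      fun hd => absurd (Nat.le_of_dvd (Nat.pos_of_ne_zero hj) hd) (by omega)).symm
    obtain ⟨i, hi⟩ := Nat.exists_mul_mod_eq_one_of_coprime hc hp.out.one_lt
    refine ⟨i * t % p, Finset.mem_range.2 (Nat.mod_lt _ hp.out.pos), ?_⟩
    have : i * t % p * j % p = t := by
      rw [Nat.mod_mul_mod, mul_right_comm, Nat.mul_mod, mul_comm i j, hi.2, one_mul, Nat.mod_mod,
        Nat.mod_eq_of_lt ht]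
    exact this

/-- The decomposition. -/
theorem split (ρ : G →* (V ≃ₗ[F] V)) (hpF : (p : F) ≠ 0) {z a : G} (hz : z ^ p = 1)
    (hzc : ∀ x, Commute x z) (ha : a ^ p = 1)
    (hzfix : ∀ v : V, ρ z v = v → v = 0) :
    let W : Fin p → Submodule F V := fun i =>
      LinearMap.eqLocus (ρ (a * z ^ i.val) : V →ₗ[F] V) LinearMap.id
    iSup W = ⊤ ∧ iSupIndep W := by
  intro W
  have hmul : ∀ g h : G, ∀ v : V, ρ (g * h) v = ρ g (ρ h v) := fun g h v => by rw [map_mul]; rfl
  have hone : ∀ v : V, ρ (1 : G) v = v := fun v => by rw [map_one]; rfl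
  have hb : ∀ i : ℕ, (a * z ^ i) ^ p = 1 := fun i => by
    rw [((hzc a).pow_right i).mul_pow, ha, one_mul, ← pow_mul, mul_comm, pow_mul, hz, one_pow]
  -- averaging over a cyclic group
  let S : G → V →ₗ[F] V := fun b => ∑ j ∈ Finset.range p, (ρ (b ^ j) : V →ₗ[F] V)
  have hS : ∀ b v, S b v = ∑ j ∈ Finset.range p, ρ (b ^ j) v := fun b v => by
    simp only [S, LinearMap.sum_apply]; rfl
  have hSfix : ∀ b, b ^ p = 1 → ∀ v, ρ b (S b v) = S b v := by
    intro b hb' v
    rw [hS, map_sum]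
    simp only [← hmul, ← pow_succ']
    have h1 := Finset.sum_range_succ' (fun j => ρ (b ^ j) v) p
    rw [Finset.sum_range_succ, hb', pow_zero, add_left_inj] at h1
    exact h1.symm
  have hSid : ∀ b v, ρ b v = v → S b v = (p : F) • v := by
    intro b v hv
    have h : ∀ j : ℕ, ρ (b ^ j) v = v := fun j => by
      induction j with
      | zero => rw [pow_zero, hone]
      | succ j ih => rw [pow_succ', hmul, ih, hv]
    rw [hS, Finset.sum_congr rfl (fun j _ => h j), Finset.sum_const,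
      Finset.card_range, Nat.cast_smul_eq_nsmul]
  have hSz : ∀ v, S z v = 0 := fun v => hzfix _ (hSfix z hz v)
  -- the total sum
  have htot : ∀ v, ∑ i ∈ Finset.range p, S (a * z ^ i) v = (p : F) • v := by
    intro v
    simp only [hS]
    rw [Finset.sum_comm, Finset.sum_eq_single 0]
    · simp only [pow_zero, hone, Finset.sum_const, Finset.card_range, Nat.cast_smul_eq_nsmul]
    · intro j hj hj0
      rw [Finset.mem_range] at hj
      have : ∀ i, ρ ((a * z ^ i) ^ j) v = ρ (a ^ j) (ρ (z ^ (i * j)) v) := fun i => by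
        rw [((hzc a).pow_right i).mul_pow, ← pow_mul, hmul]
      rw [Finset.sum_congr rfl fun i _ => this i, ← map_sum,
        sum_mul_pow_range (fun t => ρ (z ^ t) v) (fun t => by rw [← pow_eq_pow_mod t hz]) hj0 hj,
        ← hS, hSz, map_zero]
    · intro h; exact absurd (Finset.mem_range.2 hp.out.pos) h
  constructor
  · refine eq_top_iff.2 fun v _ => ?_
    have : v = (p : F)⁻¹ • ∑ i : Fin p, S (a * z ^ i.val) v := by
      rw [Fin.sum_univ_eq_sum_range (fun i => S (a * z ^ i) v), htot, inv_smul_smul₀ hpF]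
    rw [this]
    refine Submodule.smul_mem _ _ (Submodule.sum_mem _ fun i _ => ?_)
    exact Submodule.mem_iSup_of_mem i (hSfix _ (hb i.val) v)
  · rw [iSupIndep_def]
    intro i
    rw [Submodule.disjoint_def]
    intro v hv hsup
    -- `S (a z^i)` is `p` on `W i` and vanishes on the others
    have hker : (⨆ j ≠ i, W j) ≤ LinearMap.ker (S (a * z ^ i.val)) := by
      refine iSup₂_le fun j hji w hw => ?_
      rw [LinearMap.mem_ker]
      set u := S (a * z ^ i.val) w
      have hu1 : ρ (a * z ^ i.val) u = u := hSfix _ (hb i.val) w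
      have hu2 : ρ (a * z ^ j.val) u = u := by
        have hc : ∀ k, Commute (a * z ^ j.val) ((a * z ^ i.val) ^ k) := fun k =>
          (((Commute.refl a).mul_right ((hzc a).pow_right _)).mul_left
            (((hzc a).symm.pow_left _).mul_right ((Commute.refl z).pow_pow _ _))).pow_right k
        simp only [u, hS, map_sum]
        refine Finset.sum_congr rfl fun k _ => ?_
        rw [← hmul, (hc k).eq, hmul, show ρ (a * z ^ j.val) w = w from hw]
      -- hence `z` fixes `u`
      have hne : i.val ≠ j.val := fun h => hji (Fin.ext h.symm)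
      have key : ∀ i₀ j₀ : ℕ, i₀ < j₀ → j₀ < p → ρ (a * z ^ i₀) u = u → ρ (a * z ^ j₀) u = u →
          u = 0 := by
        intro i₀ j₀ hlt hjp h1 h2
        have hd : ρ (z ^ (j₀ - i₀)) u = u := by
          refine (ρ (a * z ^ i₀)).injective ?_
          rw [← hmul, mul_assoc, ← pow_add, Nat.add_sub_cancel' hlt.le, h2, h1]
        refine hzfix u ?_
        have hc : Nat.Coprime (j₀ - i₀) p := (hp.out.coprime_iff_not_dvd.2 fun hd =>
          absurd (Nat.le_of_dvd (by omega) hd) (by omega)).symm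
        obtain ⟨m, hm⟩ := Nat.exists_mul_mod_eq_one_of_coprime hc hp.out.one_lt
        have hz' : z = (z ^ (j₀ - i₀)) ^ m := by
          rw [← pow_mul, pow_eq_pow_mod _ hz, hm.2, pow_one]
        rw [hz']
        have : ∀ m : ℕ, ρ ((z ^ (j₀ - i₀)) ^ m) u = u := fun m => by
          induction m with
          | zero => rw [pow_zero, hone]
          | succ m ih => rw [pow_succ', hmul, ih, hd]
        exact this m
      rcases lt_or_gt_of_ne hne with h | h
      · exact key _ _ h j.isLt hu1 hu2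
      · exact key _ _ h i.isLt hu2 hu1
    have h0 : S (a * z ^ i.val) v = 0 := LinearMap.mem_ker.1 (hker hsup)
    rw [hSid _ v hv, smul_eq_zero] at h0
    exact h0.resolve_left hpF

end Split

end CfsgLib.PPSplit
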